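import Mathlib.AlgebraicGeometry.ValuativeCriterion
import Mathlib.AlgebraicGeometry.SpreadingOut
import Mathlib.AlgebraicGeometry.Noetherian
import Mathlib.AlgebraicGeometry.FunctionField
import Mathlib.AlgebraicGeometry.Morphisms.Separated

/-!
# Extending maps into proper schemes over a point with valuation ring as local ring
-/

set_option autoImplicit false
set_option backward.isDefEq.respectTransparency false
universe u

open CategoryTheory CategoryTheory.Limits AlgebraicGeometry TopologicalSpace

namespace Groth.Agent.ValExtend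

theorem isDomain_away_of_kill {A : Type u} [CommRing A] (P : Ideal A) [P.IsPrime]
    [IsDomain (Localization.AtPrime P)] {t : A} (htP : t ∉ P)
    (h : ∀ a, algebraMap A (Localization.AtPrime P) a = 0 → t * a = 0) : IsDomain (Localization.Away t) := by
  let S := Localization.AtPrime P
  have ht : IsUnit (algebraMap A S t) := IsLocalization.map_units S (⟨t, htP⟩ : P.primeCompl)
  refine Function.Injective.isDomain (IsLocalization.Away.lift (S := Localization.Away t) t ht) ?_
  refine (IsLocalization.lift_injective_iff _).2 fun a b => ⟨fun e => ?_, fun e => ?_⟩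
  · obtain ⟨c, hc⟩ := (IsLocalization.eq_iff_exists (Submonoid.powers t) _).1 e
    have := congrArg (algebraMap A S) hc
    rw [map_mul, map_mul] at this
    exact (IsLocalization.map_units S (⟨c, fun hcP => by
      obtain ⟨m, hm⟩ := c.2
      exact htP ((‹P.IsPrime›).mem_of_pow_mem m (by rw [show t ^ m = (c : A) from hm]; exact hcP))⟩ : P.primeCompl)).mul_left_cancel this
  · refine (IsLocalization.eq_iff_exists (Submonoid.powers t) _).2 ⟨⟨t, Submonoid.mem_powers t⟩, ?_⟩
    have := h (a - b) (by rw [map_sub, e, sub_self])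
    rwa [mul_sub, sub_eq_zero] at this

theorem exists_kill {A : Type u} [CommRing A] (P : Ideal A) [P.IsPrime] [IsDomain (Localization.AtPrime P)]
    (hA : (IsReduced A ∧ (minimalPrimes A).Finite) ∨ IsNoetherianRing A) :
    ∃ t ∉ P, ∀ a, algebraMap A (Localization.AtPrime P) a = 0 → t * a = 0 := by
  classical
  let S := Localization.AtPrime P
  let K : Ideal A := RingHom.ker (algebraMap A S)
  rcases hA with ⟨hred, hfin⟩ | hA
  · let T := hfin.toFinset.filter fun Q => ¬ Q ≤ P
    choose s hsQ hsP using fun Q : T => SetLike.not_le_iff_exists.1 (Finset.mem_filter.1 Q.2).2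
    refine ⟨∏ Q : T, s Q, fun hmem => ?_, fun a ha => ?_⟩
    · obtain ⟨Q, -, hQ⟩ := (Ideal.IsPrime.prod_mem_iff (p := P)).1 hmem
      exact hsP Q hQ
    · have hnil : IsNilpotent ((∏ Q : T, s Q) * a) := by
        rw [← mem_nilradical, nilradical_eq_sInf, Submodule.mem_sInf]
        intro (Q : Ideal A) (hQ : Q.IsPrime)
        obtain ⟨Q₀, hQ₀, hle⟩ := Ideal.exists_minimalPrimes_le (bot_le : (⊥ : Ideal A) ≤ Q)
        refine hle ?_
        by_cases hQP : Q₀ ≤ P
        · obtain ⟨u, hu⟩ := (IsLocalization.map_eq_zero_iff P.primeCompl S a).1 ha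
          exact Ideal.mul_mem_left _ _ ((hQ₀.1.1.mem_or_mem (hu ▸ Q₀.zero_mem : (u : A) * a ∈ Q₀)).resolve_left
            fun hu' => u.2 (hQP hu'))
        · have hmem : Q₀ ∈ T := Finset.mem_filter.2 ⟨hfin.mem_toFinset.2 hQ₀, hQP⟩
          exact Ideal.mul_mem_right _ _ (Ideal.mem_of_dvd _
            (Finset.dvd_prod_of_mem _ (Finset.mem_univ (⟨Q₀, hmem⟩ : T))) (hsQ ⟨Q₀, hmem⟩))
      exact hnil.eq_zero
  · obtain ⟨gs, hgs⟩ := (IsNoetherian.noetherian K : K.FG)
    have hu : ∀ g : gs, ∃ u : P.primeCompl, (u : A) * g = 0 := fun g =>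
      (IsLocalization.map_eq_zero_iff P.primeCompl S _).1 (hgs ▸ Submodule.subset_span g.2 : (g : A) ∈ K)
    choose u hu using hu
    refine ⟨∏ g : gs, (u g : A), fun hmem => ?_, fun a ha => ?_⟩
    · obtain ⟨g, -, hg⟩ := (Ideal.IsPrime.prod_mem_iff (p := P)).1 hmem
      exact (u g).2 hg
    · have ha' : a ∈ Submodule.span A (gs : Set A) := hgs.symm ▸ (ha : a ∈ K)
      induction ha' using Submodule.span_induction with
      | mem x hx =>
        obtain ⟨c, hc⟩ := Finset.dvd_prod_of_mem (fun g : gs => (u g : A)) (Finset.mem_univ (⟨x, hx⟩ : gs))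
        rw [hc, mul_right_comm, hu ⟨x, hx⟩, zero_mul]
      | zero => exact mul_zero _
      | add x y hx hy ihx ihy =>
        have hx' : x ∈ K := by rw [← hgs]; exact hx
        have hy' : y ∈ K := by rw [← hgs]; exact hy
        rw [mul_add, ihx hx', ihy hy', add_zero]
      | smul c x hx ih =>
        have hx' : x ∈ K := by rw [← hgs]; exact hx
        rw [smul_eq_mul, mul_left_comm, ih hx', mul_zero]

theorem minimalPrimes_finite {X : Scheme.{u}} (hX : (irreducibleComponents ↥X).Finite) {U : X.Opens}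
    (hU : IsAffineOpen U) : (minimalPrimes Γ(X, U)).Finite := by
  let g : PrimeSpectrum Γ(X, U) → Set X := fun q => closure {hU.fromSpec q}
  have hfin : ((fun q : PrimeSpectrum Γ(X, U) => q.asIdeal) ⁻¹' minimalPrimes Γ(X, U)).Finite := by
    refine Set.Finite.of_finite_image (f := g) (hX.subset ?_) fun a _ b _ e => ?_
    · rintro _ ⟨q, hq, rfl⟩
      refine ⟨isIrreducible_singleton.closure, fun t ht hle => ?_⟩
      have hz : IsGenericPoint ht.genericPoint (closure t) := ht.isGenericPoint_genericPoint_closure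
      have hsp : ht.genericPoint ⤳ hU.fromSpec q := hz.specializes (subset_closure (hle (subset_closure rfl)))
      intro w hw
      obtain ⟨r, hr⟩ : ht.genericPoint ∈ Set.range hU.fromSpec := by
        rw [hU.range_fromSpec]
        exact hsp.mem_open U.isOpen (hU.range_fromSpec.subset ⟨q, rfl⟩)
      have hrq : r.asIdeal ≤ q.asIdeal := (PrimeSpectrum.le_iff_specializes (R := Γ(X, U)) r q).2
        (hU.fromSpec.isOpenEmbedding.isInducing.specializes_iff.1 (hr ▸ hsp))
      have : r = q := PrimeSpectrum.ext (le_antisymm hrq (hq.2 ⟨r.2, bot_le⟩ hrq))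
      show w ∈ closure {hU.fromSpec q}
      rw [← this, hr]
      exact specializes_iff_mem_closure.1 (hz.specializes (subset_closure hw))
    · exact hU.fromSpec.isOpenEmbedding.injective
        (((specializes_iff_mem_closure.2 ((show g a = g b from e).symm.subset (subset_closure rfl))).antisymm
          (specializes_iff_mem_closure.2 ((show g a = g b from e).subset (subset_closure rfl)))).eq)
  refine (hfin.image fun q => q.asIdeal).subset fun Q hQ => ?_
  exact ⟨⟨Q, hQ.1.1⟩, hQ, rfl⟩

theorem exists_integral_nhd {X : Scheme.{u}} (x : X)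
    (hX : (IsReduced X ∧ (irreducibleComponents ↥X).Finite) ∨ IsNoetherian X)
    (hdom : IsDomain (X.presheaf.stalk x)) : ∃ V : X.Opens, x ∈ V ∧ IsIntegral (V : Scheme.{u}) := by
  obtain ⟨U, hU, hxU, -⟩ := exists_isAffineOpen_mem_and_subset (x := x) (U := ⊤) trivial
  letI := X.presheaf.algebra_section_stalk (⟨x, hxU⟩ : U)
  haveI := hU.isLocalization_stalk ⟨x, hxU⟩
  let P : PrimeSpectrum Γ(X, U) := hU.primeIdealOf ⟨x, hxU⟩
  haveI : IsDomain (Localization.AtPrime P.asIdeal) :=
    (IsLocalization.algEquiv P.asIdeal.primeCompl (Localization.AtPrime P.asIdeal)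
      (X.presheaf.stalk x)).toMulEquiv.isDomain
  have hA : (_root_.IsReduced Γ(X, U) ∧ (minimalPrimes Γ(X, U)).Finite) ∨ IsNoetherianRing Γ(X, U) := by
    rcases hX with ⟨hred, hfin⟩ | hn
    · exact Or.inl ⟨IsReduced.component_reduced U, minimalPrimes_finite hfin hU⟩
    · exact Or.inr (IsLocallyNoetherian.component_noetherian ⟨U, hU⟩)
  obtain ⟨t, htP, ht⟩ := exists_kill P.asIdeal hA
  haveI := isDomain_away_of_kill P.asIdeal htP ht
  refine ⟨X.basicOpen t, ?_, ?_⟩
  · have : P ∈ hU.fromSpec ⁻¹ᵁ X.basicOpen t := by rw [hU.fromSpec_preimage_basicOpen]; exact htP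
    change hU.fromSpec P ∈ X.basicOpen t at this
    rwa [show hU.fromSpec P = x from hU.fromSpec_primeIdealOf ⟨x, hxU⟩] at this
  · haveI : IsAffine (X.basicOpen t : Scheme.{u}) := hU.basicOpen t
    haveI := hU.isLocalization_basicOpen t
    haveI : IsDomain Γ(X, X.basicOpen t) := (IsLocalization.algEquiv (Submonoid.powers t)
      (Localization.Away t) Γ(X, X.basicOpen t)).symm.toMulEquiv.isDomain
    haveI : IsDomain Γ((X.basicOpen t : Scheme.{u}), ⊤) :=
      (X.basicOpen t).topIso.commRingCatIsoToRingEquiv.toMulEquiv.isDomain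
    haveI : Nonempty ↥(X.basicOpen t : Scheme.{u}) := ⟨⟨x, by
      have : P ∈ hU.fromSpec ⁻¹ᵁ X.basicOpen t := by rw [hU.fromSpec_preimage_basicOpen]; exact htP
      change hU.fromSpec P ∈ X.basicOpen t at this
      rwa [show hU.fromSpec P = x from hU.fromSpec_primeIdealOf ⟨x, hxU⟩] at this⟩⟩
    exact isIntegral_of_isAffine_of_isDomain _

end Groth.Agent.ValExtend
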