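import Groth.Agent.ValExtend.Basic

/-!
# Extending over a valuation point: the glueing step
-/

set_option autoImplicit false
set_option backward.isDefEq.respectTransparency false
universe u

open CategoryTheory CategoryTheory.Limits AlgebraicGeometry TopologicalSpace

namespace Groth.Agent.ValExtend

theorem exists_extend_integral {V Y S : Scheme.{u}} [IsIntegral V] (p : V ⟶ S) (q : Y ⟶ S) [IsProper q]
    (v : V) (hv : ValuationRing (V.presheaf.stalk v)) (W : V.Opens) (hW : genericPoint V ∈ W)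
    (fW : (W : Scheme.{u}) ⟶ Y) (hf : fW ≫ q = W.ι ≫ p) :
    ∃ (U' : V.Opens) (g : (U' : Scheme.{u}) ⟶ Y), v ∈ U' ∧ g ≫ q = U'.ι ≫ p ∧
      V.homOfLE (inf_le_left : W ⊓ U' ≤ W) ≫ fW = V.homOfLE (inf_le_right : W ⊓ U' ≤ U') ≫ g := by
  haveI := hv
  have hsp : genericPoint V ⤳ v := (genericPoint_spec V).specializes (Set.mem_univ v)
  let i₁ := W.fromSpecStalkOfMem (genericPoint V) hW ≫ fW
  let sp := Spec.map (CommRingCat.ofHom (algebraMap (V.presheaf.stalk v) V.functionField))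
  have hsp' : sp = Spec.map (V.presheaf.stalkSpecializes hsp) := rfl
  let sq : ValuativeCommSq q :=
    { R := V.presheaf.stalk v
      K := V.functionField
      i₁ := i₁
      i₂ := V.fromSpecStalk v ≫ p
      commSq := ⟨by
        show i₁ ≫ q = sp ≫ V.fromSpecStalk v ≫ p
        rw [Category.assoc, hf, Scheme.Opens.fromSpecStalkOfMem_ι_assoc, hsp',
          Scheme.SpecMap_stalkSpecializes_fromSpecStalk_assoc]⟩ }
  have hex : ValuativeCriterion.Existence q := by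
    have : UniversallyClosed q := inferInstance
    rw [UniversallyClosed.eq_valuativeCriterion] at this
    exact this.1
  obtain ⟨⟨φ, hφ₁, hφ₂⟩⟩ := hex sq
  obtain ⟨U', hvU', g, hg₁, hg₂⟩ := spread_out_of_isGermInjective' p q (x := v) φ hφ₂
  refine ⟨U', g, hvU', hg₂, ?_⟩
  have hηU' : genericPoint V ∈ U' := hsp.mem_open U'.isOpen hvU'
  let ι₀ := (W ⊓ U').fromSpecStalkOfMem (genericPoint V) ⟨hW, hηU'⟩
  haveI : IrreducibleSpace V := inferInstance
  haveI : IsDominant ι₀ := by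
    refine ⟨?_⟩
    rw [DenseRange, dense_iff_inter_open]
    rintro o ho ⟨w, hw⟩
    have hw' : (W ⊓ U').ι w ∈ (W ⊓ U').ι '' o := ⟨w, hw, rfl⟩
    obtain ⟨z, hz, hzη⟩ := ((genericPoint_spec V).specializes (Set.mem_univ _)).mem_open
      ((W ⊓ U').ι.isOpenEmbedding.isOpenMap o ho) hw'
    have hc : (W ⊓ U').ι (ι₀ (IsLocalRing.closedPoint (V.presheaf.stalk (genericPoint V)))) = genericPoint V := by
      rw [← Scheme.Hom.comp_apply, Scheme.Opens.fromSpecStalkOfMem_ι]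
      exact Scheme.fromSpecStalk_closedPoint
    exact ⟨z, hz, _, (W ⊓ U').ι.isOpenEmbedding.injective (hc.trans hzη.symm)⟩
  haveI : IsReduced ((W ⊓ U' : V.Opens) : Scheme.{u}) := isReduced_of_isOpenImmersion (W ⊓ U').ι
  refine ext_of_isDominant_of_isSeparated q ?_ ι₀ ?_
  · rw [Category.assoc, Category.assoc, hf, hg₂, Scheme.homOfLE_ι_assoc, Scheme.homOfLE_ι_assoc]
  · have e1 : ι₀ ≫ V.homOfLE (inf_le_left : W ⊓ U' ≤ W) = W.fromSpecStalkOfMem (genericPoint V) hW := by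
      rw [← cancel_mono W.ι, Category.assoc, Scheme.homOfLE_ι]
      simp [ι₀]
    have e2 : ι₀ ≫ V.homOfLE (inf_le_right : W ⊓ U' ≤ U') = sp ≫ U'.fromSpecStalkOfMem v hvU' := by
      rw [← cancel_mono U'.ι, Category.assoc, Scheme.homOfLE_ι, Category.assoc, hsp']
      simp [ι₀]
    rw [reassoc_of% e1, reassoc_of% e2, ← hg₁]
    exact hφ₁.symm

theorem exists_extend {X Y S : Scheme.{u}} (p : X ⟶ S) (q : Y ⟶ S) [IsProper q] (x : X) (U : X.Opens)
    (f : (U : Scheme.{u}) ⟶ Y) (hf : f ≫ q = U.ι ≫ p) (hx : x ∈ closure (U : Set ↥X)) (V : X.Opens) (hxV : x ∈ V)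
    [IsIntegral (V : Scheme.{u})] (hdom : IsDomain (X.presheaf.stalk x))
    (hval : @ValuationRing (X.presheaf.stalk x) _ hdom) :
    ∃ (U' : X.Opens) (hUU' : U ≤ U'), x ∈ U' ∧
      ∃ f' : (U' : Scheme.{u}) ⟶ Y, f' ≫ q = U'.ι ≫ p ∧ X.homOfLE hUU' ≫ f' = f := by
  let W := V.ι ⁻¹ᵁ U
  have hW : genericPoint (V : Scheme.{u}) ∈ W := by
    obtain ⟨z, hzV, hzU⟩ := mem_closure_iff.1 hx (V : Set X) V.isOpen hxV
    exact ((genericPoint_spec (V : Scheme.{u})).specializes (Set.mem_univ (⟨z, hzV⟩ : (V : Scheme.{u})))).mem_open W.isOpen hzU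
  have hv : ValuationRing ((V : Scheme.{u}).presheaf.stalk ⟨x, hxV⟩) := by
    haveI : IsDomain (X.presheaf.stalk (V.ι ⟨x, hxV⟩)) := hdom
    haveI : ValuationRing (X.presheaf.stalk (V.ι ⟨x, hxV⟩)) := hval
    let e := (asIso (V.ι.stalkMap ⟨x, hxV⟩)).commRingCatIsoToRingEquiv
    exact Function.Surjective.valuationRing e.toRingHom e.surjective
  obtain ⟨U₂, g, hxU₂, hg, hag⟩ := exists_extend_integral (V.ι ≫ p) q ⟨x, hxV⟩ hv W hW ((V.ι ∣_ U) ≫ f)
    (by rw [Category.assoc, hf, morphismRestrict_ι_assoc])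
  let B := V.ι ''ᵁ U₂
  let e : (B : Scheme.{u}) ≅ U₂ := (V.ι.isoImage U₂).symm
  have he : e.hom ≫ U₂.ι ≫ V.ι = B.ι := Scheme.Hom.isoImage_inv_ι _ _
  let O : Bool → X.Opens := fun b => bif b then U else B
  let h : ∀ b, (O b : Scheme.{u}) ⟶ Y := fun b => match b with
    | true => f
    | false => e.hom ≫ g
  have hh : ∀ b, h b ≫ q = (O b).ι ≫ p := fun b => match b with
    | true => hf
    | false => by show (e.hom ≫ g) ≫ q = B.ι ≫ p; rw [Category.assoc, hg, ← he]; simp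
  let 𝒰 := Scheme.Opens.iSupOpenCover O
  have hcompat₀ : ∀ {P : Scheme.{u}} (a : P ⟶ U) (b : P ⟶ B), a ≫ U.ι = b ≫ B.ι → a ≫ f = b ≫ e.hom ≫ g := by
    intro P a b hab
    have hrange : Set.range (b ≫ e.hom ≫ U₂.ι) ⊆ Set.range (W ⊓ U₂).ι := by
      rintro _ ⟨z, rfl⟩
      rw [Scheme.Opens.range_ι]
      refine ⟨?_, (e.hom (b z)).2⟩
      show V.ι ((b ≫ e.hom ≫ U₂.ι) z) ∈ U
      rw [← Scheme.Hom.comp_apply, Category.assoc, Category.assoc, he, ← hab, Scheme.Hom.comp_apply]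
      exact (a z).2
    let c := IsOpenImmersion.lift (W ⊓ U₂).ι (b ≫ e.hom ≫ U₂.ι) hrange
    have hc : c ≫ (W ⊓ U₂).ι = b ≫ e.hom ≫ U₂.ι := IsOpenImmersion.lift_fac _ _ _
    have h1 : c ≫ (V : Scheme.{u}).homOfLE (inf_le_left : W ⊓ U₂ ≤ W) ≫ (V.ι ∣_ U) = a := by
      rw [← cancel_mono U.ι, Category.assoc, Category.assoc, morphismRestrict_ι, Scheme.homOfLE_ι_assoc,
        reassoc_of% hc, hab, he]
    have h2 : c ≫ (V : Scheme.{u}).homOfLE (inf_le_right : W ⊓ U₂ ≤ U₂) = b ≫ e.hom := by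
      rw [← cancel_mono U₂.ι, Category.assoc, Scheme.homOfLE_ι, hc, Category.assoc]
    rw [← h1, Category.assoc, Category.assoc, hag, reassoc_of% h2]
  have hcompat : ∀ a b, pullback.fst (𝒰.f a) (𝒰.f b) ≫ h a = pullback.snd (𝒰.f a) (𝒰.f b) ≫ h b := by
    intro a b
    have hι : pullback.fst (𝒰.f a) (𝒰.f b) ≫ (O a).ι = pullback.snd (𝒰.f a) (𝒰.f b) ≫ (O b).ι := by
      have := pullback.condition (f := 𝒰.f a) (g := 𝒰.f b) =≫ (⨆ i, O i).ι
      simp only [𝒰, Scheme.Opens.iSupOpenCover, Category.assoc, Scheme.homOfLE_ι] at this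
      exact this
    cases a <;> cases b
    · exact congrArg (· ≫ h false) ((cancel_mono (O false).ι).1 hι)
    · exact (hcompat₀ _ _ hι.symm).symm
    · exact hcompat₀ _ _ hι
    · exact congrArg (· ≫ h true) ((cancel_mono (O true).ι).1 hι)
  refine ⟨⨆ i, O i, le_iSup O true, le_iSup O false ⟨⟨x, hxV⟩, hxU₂, rfl⟩, 𝒰.glueMorphisms h hcompat, ?_, ?_⟩
  · refine 𝒰.hom_ext _ _ fun b => ?_
    rw [Scheme.Cover.ι_glueMorphisms_assoc, hh]
    simp [𝒰, Scheme.Opens.iSupOpenCover]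
  · exact 𝒰.ι_glueMorphisms h hcompat true

end Groth.Agent.ValExtend
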